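import Groth.Agent.SemiLin.Basic
import Mathlib.FieldTheory.IsSepClosed
import Mathlib.FieldTheory.IsAlgClosed.Basic
import Mathlib.FieldTheory.Perfect
import Mathlib.Algebra.CharP.Lemmas

set_option autoImplicit false
universe u v
open Polynomial

namespace Groth.Agent.SemiLin.Roots

variable {k : Type u} [Field k]

lemma exists_ne_zero_root_sep [IsSepClosed k] (P : k[X]) (h0 : P.coeff 0 = 0) (h1 : P.coeff 1 ≠ 0)
    (hs : P.Separable) (hd : 1 < P.natDegree) : ∃ x : k, x ≠ 0 ∧ P.eval x = 0 := by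
  obtain ⟨Q, rfl⟩ := X_dvd_iff.mpr h0
  have hQ0 : Q.coeff 0 ≠ 0 := by simpa [coeff_X_mul] using h1
  have hQne : Q ≠ 0 := by rintro rfl; simp at hQ0
  have hQd : Q.degree ≠ 0 := by
    intro h
    rw [natDegree_mul X_ne_zero hQne, natDegree_X, natDegree_eq_zero_iff_degree_le_zero.mpr h.le] at hd
    omega
  obtain ⟨x, hx⟩ := IsSepClosed.exists_root Q hQd hs.of_mul_right
  refine ⟨x, ?_, by simp [hx.eq_zero]⟩
  rintro rfl
  exact hQ0 (by rw [coeff_zero_eq_eval_zero]; exact hx.eq_zero)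

/-- The `q`-th power map. -/
noncomputable def qPow (k : Type u) [Field k] (p : ℕ) [Fact p.Prime] [CharP k p] (r : ℕ) : k →+* k :=
  iterateFrobenius k p r

@[simp] lemma qPow_apply (p : ℕ) [Fact p.Prime] [CharP k p] (r : ℕ) (x : k) :
    qPow k p r x = x ^ p ^ r := iterateFrobenius_def p r x

lemma qPow_iterate (p : ℕ) [Fact p.Prime] [CharP k p] (r n : ℕ) (x : k) :
    (⇑(qPow k p r))^[n] x = x ^ (p ^ r) ^ n := by
  induction n with
  | zero => simp
  | succ n ih => rw [Function.iterate_succ_apply', ih, qPow_apply, ← pow_mul, ← pow_succ]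

lemma qPow_H2 (p : ℕ) [Fact p.Prime] [CharP k p] [IsSepClosed k] (r : ℕ) (hr : 0 < r) :
    Basic.H2 (qPow k p r) := by
  intro n b hb
  have hq : 1 < p ^ r := Nat.one_lt_pow hr.ne' (Fact.out : p.Prime).one_lt
  let c : Fin (n + 1) → k := fun i => (b (Fin.rev i)) ^ (p ^ r) ^ (i : ℕ)
  let P : k[X] := (∑ i : Fin (n + 1), C (c i) * X ^ (p ^ r) ^ ((i : ℕ) + 1)) - X
  have hpow : ∀ i : Fin (n + 1), 1 < (p ^ r) ^ ((i : ℕ) + 1) := fun i =>
    Nat.one_lt_pow (Nat.succ_ne_zero _) hq
  have hco : ∀ m, P.coeff m =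
      (∑ i : Fin (n + 1), if m = (p ^ r) ^ ((i : ℕ) + 1) then c i else 0) - if 1 = m then 1 else 0 := by
    intro m
    simp [P, coeff_X]
  have h1 : P.coeff 1 = -1 := by
    rw [hco, Finset.sum_eq_zero fun i _ => if_neg (hpow i).ne]
    simp
  have h0 : P.coeff 0 = 0 := by
    rw [hco, Finset.sum_eq_zero fun i _ => if_neg (pow_ne_zero _ (by omega : p ^ r ≠ 0)).symm]
    simp
  have hder : derivative P = -1 := by
    simp only [P, derivative_sub, derivative_sum, derivative_C_mul, derivative_X_pow, derivative_X]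
    rw [Finset.sum_eq_zero fun i _ => ?_, zero_sub]
    have : ((p ^ r) ^ ((i : ℕ) + 1) : k) = 0 := by
      rw [CharP.cast_eq_zero k p, zero_pow hr.ne', zero_pow (Nat.succ_ne_zero _)]
    simp [hr.ne']
  have hs : P.Separable := by
    rw [separable_def, hder]
    exact ⟨0, -1, by simp⟩
  obtain ⟨j, hj⟩ : ∃ j, b j ≠ 0 := Function.ne_iff.mp hb
  have hd : 1 < P.natDegree := by
    refine (hpow (Fin.rev j)).trans_le (le_natDegree_of_ne_zero ?_)
    rw [hco, if_neg (hpow (Fin.rev j)).ne, sub_zero, Finset.sum_eq_single (Fin.rev j)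
      (fun i _ hi => if_neg fun h => hi (Fin.ext ?_)) (by simp)]
    · simp [c, hj]
    · have := Nat.pow_right_injective hq h
      omega
  obtain ⟨x, hx0, hx⟩ := exists_ne_zero_root_sep P h0 (by rw [h1]; simp) hs hd
  refine ⟨x, hx0, ?_⟩
  rw [eq_comm, ← sub_eq_zero]
  simpa [P, c, qPow_iterate, eval_finsetSum, mul_comm] using hx

lemma qPow_H3 (p : ℕ) [Fact p.Prime] [CharP k p] [IsSepClosed k] (r : ℕ) (hr : 0 < r) :
    Basic.H3 (qPow k p r) := by
  intro c
  have hq : 1 < p ^ r := Nat.one_lt_pow hr.ne' (Fact.out : p.Prime).one_lt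
  let P : k[X] := X ^ p ^ r - X + C c
  have hdeg : P.natDegree = p ^ r := by
    simp only [P]
    rw [natDegree_add_C, natDegree_sub_eq_left_of_natDegree_lt]
    · simp
    · simpa using hq
  have hs : P.Separable := by
    have : derivative P = -1 := by
      simp [P, derivative_X_pow, zero_pow hr.ne']
    rw [separable_def, this]
    exact ⟨0, -1, by simp⟩
  obtain ⟨y, hy⟩ := IsSepClosed.exists_root P (fun h => by
    have := natDegree_eq_zero_iff_degree_le_zero.mpr h.le; rw [hdeg] at this; omega) hs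
  exact ⟨y, by simpa [P] using hy.eq_zero⟩

lemma frobInv_iterate (p : ℕ) [Fact p.Prime] [CharP k p] [PerfectRing k p] (n : ℕ) (x : k) :
    ((⇑((frobeniusEquiv k p).symm.toRingHom))^[n] x) ^ p ^ n = x := by
  induction n generalizing x with
  | zero => simp
  | succ n ih =>
    rw [Function.iterate_succ_apply', pow_succ', pow_mul]
    show (((frobeniusEquiv k p).symm _) ^ p) ^ p ^ n = x
    rw [frobeniusEquiv_symm_pow_p]
    exact ih x

lemma frobInv_H2 (p : ℕ) [Fact p.Prime] [CharP k p] [IsAlgClosed k] :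
    Basic.H2 ((frobeniusEquiv k p).symm.toRingHom) := by
  intro n b hb
  have hp : 1 < p := (Fact.out : p.Prime).one_lt
  let σ := (frobeniusEquiv k p).symm.toRingHom
  let d : Fin (n + 1) → k := fun i => ((⇑σ)^[i.val] (b (Fin.rev i))) ^ p ^ (n + 1)
  have hd0 : ∃ i, d i ≠ 0 := by
    obtain ⟨j, hj⟩ : ∃ j, b j ≠ 0 := Function.ne_iff.mp hb
    refine ⟨Fin.rev j, pow_ne_zero _ fun h => hj ?_⟩
    rw [Fin.rev_rev] at h
    have := frobInv_iterate p (Fin.rev j).val (b j)
    rw [show (⇑σ)^[(Fin.rev j).val] (b j) = 0 from h, zero_pow (pow_ne_zero _ (by omega))] at this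
    exact this.symm
  let P : k[X] := X ^ p ^ (n + 1) - ∑ i : Fin (n + 1), C (d i) * X ^ p ^ (n - (i : ℕ))
  have hlt : ∀ i : Fin (n + 1), p ^ (n - (i : ℕ)) < p ^ (n + 1) := fun i =>
    Nat.pow_lt_pow_right hp (by omega)
  have hdeg : P.natDegree = p ^ (n + 1) := by
    simp only [P]
    rw [natDegree_sub_eq_left_of_natDegree_lt]
    · simp
    · rw [natDegree_X_pow]
      refine lt_of_le_of_lt (natDegree_sum_le_of_forall_le (n := p ^ n) _ _ fun i _ => ?_)
        (Nat.pow_lt_pow_right hp (by omega))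
      exact (natDegree_C_mul_X_pow_le _ _).trans (Nat.pow_le_pow_right (by omega) (by omega))
  have hmon : P.leadingCoeff = 1 := by
    rw [leadingCoeff, hdeg]
    simp [P, (fun i => (hlt i).ne' : ∀ i : Fin (n + 1), p ^ (n + 1) ≠ p ^ (n - (i : ℕ)))]
  obtain ⟨x, hx0, hx⟩ : ∃ x : k, x ≠ 0 ∧ P.eval x = 0 := by
    by_contra hc
    push Not at hc
    have hroots : P.roots = Multiset.replicate P.roots.card 0 :=
      Multiset.eq_replicate_card.mpr fun a ha =>
        by_contra fun ha0 => hc a ha0 ((mem_roots'.mp ha).2)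
    have hsp := (IsAlgClosed.splits P).eq_prod_roots
    have hcard : P.roots.card = p ^ (n + 1) := by
      rw [← hdeg, ← (IsAlgClosed.splits P).natDegree_eq_card_roots]
    rw [hroots, hcard, hmon, map_one, one_mul, Multiset.map_replicate, Multiset.prod_replicate,
      map_zero, sub_zero] at hsp
    obtain ⟨i, hi⟩ := hd0
    have hc0 := congrArg (fun Q => Q.coeff (p ^ (n - (i : ℕ)))) hsp
    simp only [P, coeff_sub, coeff_X_pow, finsetSum_coeff, coeff_C_mul, mul_ite, mul_one, mul_zero,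
      if_neg (hlt i).ne] at hc0
    rw [Finset.sum_eq_single i (fun j _ hj => if_neg fun h => hj (Fin.ext ?_)) (by simp)] at hc0
    · simp at hc0; exact hi hc0
    · have := Nat.pow_right_injective hp h
      omega
  refine ⟨x, hx0, frobenius_inj k p |>.iterate (n + 1) ?_⟩
  simp only [iterate_frobenius]
  rw [sum_pow_char_pow]
  have : x ^ p ^ (n + 1) = ∑ i : Fin (n + 1), d i * x ^ p ^ (n - (i : ℕ)) := by
    simpa [P, eval_finsetSum, sub_eq_zero] using hx
  rw [this]
  refine Finset.sum_congr rfl fun i _ => ?_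
  rw [mul_pow, mul_comm]
  congr 1
  rw [show p ^ (n + 1) = p ^ ((i : ℕ) + 1) * p ^ (n - (i : ℕ)) by rw [← pow_add]; congr 1; omega,
    pow_mul, frobInv_iterate]

lemma frobInv_H3 (p : ℕ) [Fact p.Prime] [CharP k p] [IsAlgClosed k] :
    Basic.H3 ((frobeniusEquiv k p).symm.toRingHom) := by
  intro c
  have hp : 1 < p := (Fact.out : p.Prime).one_lt
  let P : k[X] := X ^ p - X - C c
  have hdeg : P.natDegree = p := by
    simp only [P]
    rw [natDegree_sub_C, natDegree_sub_eq_left_of_natDegree_lt] <;> simp [hp]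
  obtain ⟨z, hz⟩ := IsAlgClosed.exists_root P (fun h => by
    have := natDegree_eq_zero_iff_degree_le_zero.mpr h.le; rw [hdeg] at this; omega)
  refine ⟨z ^ p, ?_⟩
  have hz' : z ^ p - z - c = 0 := by simpa [P] using hz.eq_zero
  show (frobeniusEquiv k p).symm (z ^ p) - z ^ p + c = 0
  rw [show (frobeniusEquiv k p).symm (z ^ p) = z from (RingEquiv.symm_apply_eq _).mpr (frobeniusEquiv_def k p z).symm]
  linear_combination -hz'

end Groth.Agent.SemiLin.Roots
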