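import Mathlib.LinearAlgebra.FiniteDimensional.Lemmas
import Mathlib.LinearAlgebra.Basis.VectorSpace
import Mathlib.RingTheory.Artinian.Module
import Mathlib.LinearAlgebra.Quotient.Basic
import Mathlib.LinearAlgebra.FiniteDimensional.Basic
import Mathlib.Tactic.LinearCombination
import Mathlib.LinearAlgebra.Dimension.Constructions
import Mathlib.LinearAlgebra.Dimension.LinearMap
import Mathlib.LinearAlgebra.Dimension.OrzechProperty

set_option autoImplicit false
universe u v
open Submodule

namespace Groth.Agent.SemiLin.Basic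

variable {k : Type u} [Field k] {σ : k →+* k} {V : Type v} [AddCommGroup V] [Module k V]
variable (T : V →ₛₗ[σ] V)

lemma iter_zero_vec (n : ℕ) : (⇑T)^[n] 0 = 0 := Function.iterate_fixed (map_zero T) n

lemma iter_add (n : ℕ) (x y : V) : (⇑T)^[n] (x + y) = (⇑T)^[n] x + (⇑T)^[n] y := by
  induction n generalizing x y with
  | zero => rfl
  | succ n ih => simp only [Function.iterate_succ_apply, map_add, ih]

lemma iter_smul (n : ℕ) (c : k) (x : V) : (⇑T)^[n] (c • x) = (⇑σ)^[n] c • (⇑T)^[n] x := by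
  induction n generalizing c x with
  | zero => rfl
  | succ n ih => simp only [Function.iterate_succ_apply, map_smulₛₗ, ih]

/-- span of the image of the `n`-th iterate -/
def W (n : ℕ) : Submodule k V := span k (Set.range ((⇑T)^[n]))

lemma mem_W (n : ℕ) (x : V) : (⇑T)^[n] x ∈ W T n := subset_span ⟨x, rfl⟩

lemma W_succ_le (n : ℕ) : W T (n + 1) ≤ W T n := by
  refine span_mono ?_
  rintro _ ⟨x, rfl⟩
  exact ⟨T x, (Function.iterate_succ_apply _ _ _).symm⟩

lemma W_antitone : Antitone (W T) := antitone_nat_of_succ_le (W_succ_le T)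

lemma map_mem_W {n : ℕ} {x : V} (hx : x ∈ W T n) : T x ∈ W T (n + 1) := by
  have : W T n ≤ (W T (n + 1)).comap T := span_le.mpr (by
    rintro _ ⟨y, rfl⟩
    exact subset_span ⟨y, (Function.iterate_succ_apply' (⇑T) n y)⟩)
  exact this hx

/-- the semisimple part -/
def Vss : Submodule k V := ⨅ n : ℕ, W T n

lemma map_mem_Vss {x : V} (hx : x ∈ Vss T) : T x ∈ Vss T := by
  simp only [Vss, mem_iInf] at hx ⊢
  intro n
  exact W_succ_le T n (map_mem_W T (hx n))

lemma iter_mem_Vss (n : ℕ) {x : V} (hx : x ∈ Vss T) : (⇑T)^[n] x ∈ Vss T := by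
  induction n with
  | zero => exact hx
  | succ n ih => rw [Function.iterate_succ_apply']; exact map_mem_Vss T ih

lemma exists_W_eq [FiniteDimensional k V] : ∃ N : ℕ, ∀ m, N ≤ m → W T m = Vss T := by
  obtain ⟨N, hN⟩ := IsArtinian.monotone_stabilizes
    (R := k) (M := V) ⟨fun n => OrderDual.toDual (W T n), fun a b hab => W_antitone T hab⟩
  have hN' : ∀ m, N ≤ m → W T m = W T N := fun m hm => (hN m hm).symm
  refine ⟨N, fun m hm => le_antisymm (le_iInf fun j => ?_) (iInf_le _ m)⟩
  rcases le_total N j with h | h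
  · rw [hN' m hm, hN' j h]
  · rw [hN' m hm]; exact W_antitone T h

/-- restriction to an invariant submodule -/
def restr (S : Submodule k V) (h : ∀ x ∈ S, T x ∈ S) : S →ₛₗ[σ] S where
  toFun x := ⟨T x, h _ x.2⟩
  map_add' x y := Subtype.ext (by simp)
  map_smul' c x := Subtype.ext (by simp)

@[simp] lemma restr_coe (S : Submodule k V) (h : ∀ x ∈ S, T x ∈ S) (x : S) :
    (restr T S h x : V) = T x := rfl

/-- the restriction to the semisimple part -/
def Tss : Vss T →ₛₗ[σ] Vss T := restr T (Vss T) (fun _ hx => map_mem_Vss T hx)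

lemma span_range_Tss [FiniteDimensional k V] : span k (Set.range (Tss T)) = ⊤ := by
  obtain ⟨N, hN⟩ := exists_W_eq T
  apply map_injective_of_injective (f := (Vss T).subtype) Subtype.val_injective
  rw [map_span, map_subtype_top, ← Set.range_comp]
  refine le_antisymm (span_le.mpr ?_) ?_
  · rintro _ ⟨x, rfl⟩; exact (Tss T x).2
  · conv_lhs => rw [← hN (N + 1) (Nat.le_succ N)]
    refine span_mono ?_
    rintro _ ⟨x, rfl⟩
    exact ⟨⟨(⇑T)^[N] x, by rw [← hN N le_rfl]; exact mem_W T N x⟩,
      (Function.iterate_succ_apply' (⇑T) N x).symm⟩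

lemma injective_of_span_range [FiniteDimensional k V] (h : span k (Set.range T) = ⊤) :
    Function.Injective T := by
  let b := Module.finBasis k V
  have hb : ⊤ ≤ span k (Set.range fun i => T (b i)) := by
    rw [← h, span_le]
    rintro _ ⟨x, rfl⟩
    rw [← b.sum_repr x, map_sum]
    refine sum_mem fun i _ => ?_
    rw [map_smulₛₗ]
    exact smul_mem _ _ (subset_span ⟨i, rfl⟩)
  have hli : LinearIndependent k fun i => T (b i) :=
    linearIndependent_of_top_le_span_of_card_eq_finrank hb (Fintype.card_fin _)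
  rw [injective_iff_map_eq_zero]
  intro x hx
  rw [← b.sum_repr x, map_sum] at hx
  simp only [map_smulₛₗ] at hx
  have := Fintype.linearIndependent_iff.mp hli _ hx
  rw [← b.sum_repr x]
  refine Finset.sum_eq_zero fun i _ => ?_
  rw [(map_eq_zero σ).mp (this i), zero_smul]

lemma eq_zero_of_mem_Vss [FiniteDimensional k V] {x : V} (hx : x ∈ Vss T)
    (hn : ∃ n : ℕ, (⇑T)^[n] x = 0) : x = 0 := by
  obtain ⟨n, hn⟩ := hn
  have hi : Function.Injective (Tss T) := injective_of_span_range _ (span_range_Tss T)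
  induction n generalizing x with
  | zero => exact hn
  | succ n ih =>
    rw [Function.iterate_succ_apply] at hn
    have := ih (map_mem_Vss T hx) hn
    exact congrArg Subtype.val (hi (a₁ := (⟨x, hx⟩ : Vss T)) (a₂ := 0)
      (Subtype.ext (by rw [map_zero]; exact this)))

/-- solvability hypothesis for twisted linear equations -/
def H2 (σ : k →+* k) : Prop := ∀ (n : ℕ) (b : Fin (n + 1) → k), b ≠ 0 →
  ∃ x : k, x ≠ 0 ∧ x = ∑ i : Fin (n + 1), (⇑σ)^[i.val + 1] x * (⇑σ)^[i.val] (b (Fin.rev i))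

/-- solvability hypothesis of Artin-Schreier type -/
def H3 (σ : k →+* k) : Prop := ∀ c : k, ∃ y : k, σ y - y + c = 0

lemma exists_fixed [FiniteDimensional k V] (h2 : H2 σ) (e : V) (he : ∀ m : ℕ, (⇑T)^[m] e ≠ 0) :
    ∃ v ∈ span k (Set.range fun m : ℕ => (⇑T)^[m] e), v ≠ 0 ∧ T v = v := by
  classical
  let f : ℕ → V := fun m => (⇑T)^[m] e
  have hex : ∃ m, ¬ LinearIndependent k (fun i : Fin (m + 1) => f i) :=
    ⟨Module.finrank k V, fun h => absurd h.fintype_card_le_finrank (by simp)⟩
  have h0 : LinearIndependent k (fun i : Fin (0 + 1) => f i) :=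
    (linearIndependent_unique_iff (ι := Fin 1)).mpr (he _)
  obtain ⟨n, hn⟩ : ∃ n, Nat.find hex = n + 1 := Nat.exists_eq_succ_of_ne_zero fun hz =>
    Nat.find_spec hex (by rw [hz]; exact h0)
  have hli : LinearIndependent k (fun i : Fin (n + 1) => f i) :=
    not_not.mp (Nat.find_min hex (by omega : n < Nat.find hex))
  have hdep : f (n + 1) ∈ span k (Set.range fun i : Fin (n + 1) => f i) := by
    by_contra hc
    have hs := Nat.find_spec hex
    rw [hn] at hs
    refine hs ?_
    have := hli.finSnoc hc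
    convert this using 1
    funext i
    refine Fin.lastCases ?_ (fun j => ?_) i <;> simp
  obtain ⟨a, ha⟩ := mem_span_range_iff_exists_fun k |>.mp hdep
  have ha0 : a ≠ 0 := by
    rintro rfl
    simp at ha
    exact he (n + 1) ha.symm
  obtain ⟨x, hx0, hx⟩ := h2 n a ha0
  -- coefficients, defined downwards
  let c : ℕ → k := fun j => Nat.rec (σ x * a 0)
    (fun i ci => σ ci + σ x * (if h : i + 1 < n + 1 then a ⟨i + 1, h⟩ else 0)) j
  have hc : ∀ m : ℕ, ∀ hm : m < n + 1, c m =
      ∑ i : Fin (m + 1), (⇑σ)^[i.val + 1] x * (⇑σ)^[i.val] (a ⟨m - i, by omega⟩) := by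
    intro m
    induction m with
    | zero => intro hm; simp [c]
    | succ m ih =>
      intro hm
      rw [Fin.sum_univ_succ]
      show σ (c m) + σ x * _ = _
      rw [dif_pos hm, ih (by omega), map_sum, add_comm]
      congr 1
      refine Finset.sum_congr rfl fun i _ => ?_
      simp only [map_mul, Fin.val_succ, ← Function.iterate_succ_apply' σ]
      congr 3
      apply Fin.ext
      simp
  have hcn : c n = x := by
    rw [hc n (Nat.lt_succ_self n)]
    conv_rhs => rw [hx]
    refine Finset.sum_congr rfl fun i _ => ?_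
    congr 3
    apply Fin.ext
    simp [Fin.val_rev]
  refine ⟨∑ i : Fin (n + 1), c i • f i, sum_mem fun i _ => smul_mem _ _ (subset_span ⟨i, rfl⟩),
    fun hv => hx0 ?_, ?_⟩
  · have := Fintype.linearIndependent_iff.mp hli _ hv (Fin.last n)
    simpa [hcn] using this
  · have hT : ∀ i : ℕ, T (f i) = f (i + 1) := fun i => (Function.iterate_succ_apply' (⇑T) i e).symm
    simp only [map_sum, map_smulₛₗ, hT]
    rw [Fin.sum_univ_castSucc (f := fun i : Fin (n+1) => σ (c i) • f (i + 1))]
    simp only [Fin.val_last, hcn, ← ha, Finset.smul_sum, smul_smul, Fin.val_castSucc]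
    rw [Fin.sum_univ_succ (f := fun i : Fin (n+1) => (σ x * a i) • f i),
      Fin.sum_univ_succ (f := fun i : Fin (n+1) => c i • f i), add_comm, add_assoc]
    congr 1
    rw [← Finset.sum_add_distrib]
    refine Finset.sum_congr rfl fun i _ => ?_
    simp only [Fin.val_succ]
    rw [← add_smul]
    congr 1
    show _ = σ (c i) + _
    rw [dif_pos (by omega), add_comm]
    congr 1

/-- the span of the fixed vectors -/
def Fix : Submodule k V := span k {v | T v = v}

lemma map_mem_Fix {x : V} (hx : x ∈ Fix T) : T x ∈ Fix T := by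
  have : Fix T ≤ (Fix T).comap T := span_le.mpr (by
    intro y (hy : T y = y)
    show T y ∈ Fix T
    rw [hy]; exact subset_span hy)
  exact this hx

lemma exists_sub_eq_of_mem_Fix (h3 : H3 σ) {x : V} (hx : x ∈ Fix T) :
    ∃ w ∈ Fix T, w - T w = x := by
  induction hx using span_induction with
  | mem y hy =>
    obtain ⟨t, ht⟩ := h3 1
    refine ⟨t • y, smul_mem _ _ (subset_span hy), ?_⟩
    rw [map_smulₛₗ, show T y = y from hy, ← sub_smul, show t - σ t = 1 by linear_combination -ht,
      one_smul]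
  | zero => exact ⟨0, zero_mem _, by simp⟩
  | add y z _ _ hy hz =>
    obtain ⟨a, ha, rfl⟩ := hy
    obtain ⟨b, hb, rfl⟩ := hz
    exact ⟨a + b, add_mem ha hb, by rw [map_add]; abel⟩
  | smul c y hy _ =>
    clear ‹∃ w ∈ Fix T, w - T w = y›
    induction hy using span_induction generalizing c with
    | mem z hz =>
      obtain ⟨t, ht⟩ := h3 c
      refine ⟨t • z, smul_mem _ _ (subset_span hz), ?_⟩
      rw [map_smulₛₗ, show T z = z from hz, ← sub_smul, show t - σ t = c by linear_combination -ht]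
    | zero => exact ⟨0, zero_mem _, by simp⟩
    | add a b _ _ iha ihb =>
      obtain ⟨w, hw, e⟩ := iha c
      obtain ⟨w', hw', e'⟩ := ihb c
      exact ⟨w + w', add_mem hw hw', by rw [map_add, smul_add, ← e, ← e']; abel⟩
    | smul d a _ iha =>
      rw [smul_smul]; exact iha (c * d)

lemma Fix_eq_top [FiniteDimensional k V] (h1 : span k (Set.range T) = ⊤) (h2 : H2 σ) (h3 : H3 σ) :
    Fix T = ⊤ := by
  by_contra hne
  let U := Fix T
  have hU : U ≤ U.comap T := fun x hx => map_mem_Fix T hx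
  let Q : (V ⧸ U) →ₛₗ[σ] (V ⧸ U) := U.mapQ U T hU
  have hQs : span k (Set.range Q) = ⊤ := by
    refine le_antisymm le_top ?_
    rw [← LinearMap.range_eq_top.mpr (mkQ_surjective U), LinearMap.range_eq_map, ← h1, map_span,
      ← Set.range_comp, span_le]
    rintro _ ⟨x, rfl⟩
    exact subset_span ⟨U.mkQ x, mapQ_apply U U T x⟩
  obtain ⟨e, he⟩ : ∃ e : V ⧸ U, e ≠ 0 := by
    obtain ⟨v, hv⟩ : ∃ v : V, v ∉ U := not_forall.mp fun h => hne (eq_top_iff'.mpr h)
    exact ⟨U.mkQ v, fun h => hv ((Submodule.Quotient.mk_eq_zero U).mp h)⟩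
  have hinj := (injective_of_span_range Q hQs)
  have hit : ∀ m, (⇑Q)^[m] e ≠ 0 := fun m h => he ((hinj.iterate m) (h.trans (iter_zero_vec Q m).symm))
  obtain ⟨v', -, hv0, hvf⟩ := exists_fixed Q h2 e hit
  obtain ⟨v, rfl⟩ := mkQ_surjective U v'
  have hu : T v - v ∈ U := (Submodule.Quotient.eq U).mp hvf
  obtain ⟨w, hw, hwe⟩ := exists_sub_eq_of_mem_Fix T h3 hu
  have hfix : T (v + w) = v + w := by
    rw [map_add, ← sub_eq_zero, show T v + T w - (v + w) = (T v - v) - (w - T w) by abel, hwe, sub_self]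
  exact hv0 ((Submodule.Quotient.mk_eq_zero U).mpr (by
    have := sub_mem (show v + w ∈ U from subset_span hfix) hw
    simpa using this))

lemma exists_basis_fixed [FiniteDimensional k V] (h : Fix T = ⊤) :
    ∃ b : Module.Basis (Fin (Module.finrank k V)) k V, ∀ i, T (b i) = b i := by
  have hh : ⊤ ≤ span k {v : V | T v = v} := h.ge
  let b := Module.Basis.ofSpan hh
  let b' := b.reindex (b.indexEquiv (Module.finBasis k V))
  refine ⟨b', fun i => ?_⟩
  have : b' i ∈ {v : V | T v = v} :=
    Module.Basis.ofSpan_subset hh ⟨(b.indexEquiv (Module.finBasis k V)).symm i,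
      (b.reindex_apply _ i).symm⟩
  exact this

lemma exists_basis_fixed_Vss [FiniteDimensional k V] (h2 : H2 σ) (h3 : H3 σ) :
    ∃ b : Module.Basis (Fin (Module.finrank k (Vss T))) k (Vss T), ∀ i, T (b i : V) = (b i : V) := by
  obtain ⟨b, hb⟩ := exists_basis_fixed _ (Fix_eq_top (Tss T) (span_range_Tss T) h2 h3)
  exact ⟨b, fun i => congrArg Subtype.val (hb i)⟩

lemma surjective_sub [FiniteDimensional k V] (h2 : H2 σ) (h3 : H3 σ) :
    Function.Surjective fun v : V => v - T v := by
  intro x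
  obtain ⟨N, hN⟩ := exists_W_eq T
  have hx : (⇑T)^[N] x ∈ Vss T := hN N le_rfl ▸ mem_W T N x
  obtain ⟨w, -, hw⟩ := exists_sub_eq_of_mem_Fix (Tss T) h3
    (x := ⟨_, hx⟩) (by rw [Fix_eq_top (Tss T) (span_range_Tss T) h2 h3]; exact mem_top)
  refine ⟨(∑ i ∈ Finset.range N, (⇑T)^[i] x) + (w : V), ?_⟩
  have hw' : (w : V) - T w = (⇑T)^[N] x := congrArg Subtype.val hw
  show _ - T _ = x
  rw [map_add, map_sum]
  have hs : ∑ i ∈ Finset.range N, T ((⇑T)^[i] x) =
      ∑ i ∈ Finset.range N, (⇑T)^[i + 1] x :=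
    Finset.sum_congr rfl fun i _ => (Function.iterate_succ_apply' (⇑T) i x).symm
  rw [hs, add_sub_add_comm, hw', ← Finset.sum_sub_distrib,
    Finset.sum_range_sub' (fun i => (⇑T)^[i] x) N]
  simp

lemma fixed_mem_Vss {v : V} (hv : T v = v) : v ∈ Vss T := by
  simp only [Vss, mem_iInf]
  intro n
  have : (⇑T)^[n] v = v := Function.iterate_fixed hv n
  rw [← this]; exact mem_W T n v

lemma coeff_fixed {ι : Type*} [Fintype ι] {f : ι → V} (hli : LinearIndependent k f)
    (hf : ∀ i, T (f i) = f i) (c : ι → k) (h : T (∑ i, c i • f i) = ∑ i, c i • f i) (i : ι) :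
    σ (c i) = c i := by
  have e : ∑ i, (σ (c i) - c i) • f i = 0 := by
    simp only [sub_smul, Finset.sum_sub_distrib, sub_eq_zero]
    simpa [map_sum, map_smulₛₗ, hf] using h
  exact sub_eq_zero.mp (Fintype.linearIndependent_iff.mp hli _ e i)

lemma iter_basis_fixed {ι : Type*} [Fintype ι] {f : ι → V} (hf : ∀ i, T (f i) = f i) (c : ι → k)
    (n : ℕ) : (⇑T)^[n] (∑ i, c i • f i) = ∑ i, (⇑σ)^[n] (c i) • f i := by
  induction n with
  | zero => rfl
  | succ n ih => simp [Function.iterate_succ_apply', ih, map_sum, map_smulₛₗ, hf]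

/-- restriction to an invariant submodule, over a ring -/
def restr' {R : Type*} [CommRing R] {τ : R →+* R} {M : Type*} [AddCommGroup M] [Module R M]
    (T : M →ₛₗ[τ] M) (S : Submodule R M) (h : ∀ x ∈ S, T x ∈ S) : S →ₛₗ[τ] S where
  toFun x := ⟨T x, h _ x.2⟩
  map_add' x y := Subtype.ext (by simp)
  map_smul' c x := Subtype.ext (by simp)

end Groth.Agent.SemiLin.Basic
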