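import Groth.Agent.SemiLin.Basic
import Mathlib.RingTheory.LocalRing.ResidueField.Basic
import Mathlib.RingTheory.Ideal.Quotient.Operations
import Mathlib.RingTheory.Ideal.Maps
import Mathlib.RingTheory.Finiteness.Basic
import Mathlib.Algebra.Ring.Subring.Basic
import Mathlib.RingTheory.Finiteness.Cardinality
import Mathlib.Algebra.Module.Torsion.Basic

set_option autoImplicit false
universe u v
open IsLocalRing

namespace Groth.Agent.SemiLin.Local

variable {R : Type u} [CommRing R] [IsLocalRing R] {p : ℕ}
  (σ : R →+* R) (σbar : ResidueField R →+* ResidueField R)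
  (hσbar : ∀ r : R, σbar (residue R r) = residue R (σ r))

abbrev V (R : Type u) [CommRing R] [IsLocalRing R] (M : Type v) [AddCommGroup M] [Module R M] :=
  M ⧸ (maximalIdeal R • (⊤ : Submodule R M))

variable {M : Type v} [AddCommGroup M] [Module R M]

noncomputable instance : Module (ResidueField R) (V R M) :=
  inferInstanceAs (Module (R ⧸ maximalIdeal R) (M ⧸ (maximalIdeal R • (⊤ : Submodule R M))))

abbrev mk (m : M) : V R M := Submodule.Quotient.mk m

lemma residue_smul_mk (r : R) (m : M) : residue R r • mk (R := R) m = mk (r • m) := rfl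

instance : IsScalarTower R (ResidueField R) (V R M) :=
  IsScalarTower.of_algebraMap_smul fun r x => by
    obtain ⟨m, rfl⟩ := Submodule.Quotient.mk_surjective _ x
    rfl

instance [Module.Finite R M] : Module.Finite (ResidueField R) (V R M) :=
  Module.Finite.of_restrictScalars_finite R (ResidueField R) (V R M)

variable {σ σbar}
include hσbar

lemma le_comap (T : M →ₛₗ[σ] M) :
    maximalIdeal R • (⊤ : Submodule R M) ≤ (maximalIdeal R • (⊤ : Submodule R M)).comap T := by
  refine Submodule.smul_le.mpr fun r hr m _ => ?_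
  show T (r • m) ∈ maximalIdeal R • (⊤ : Submodule R M)
  rw [map_smulₛₗ]
  refine Submodule.smul_mem_smul ?_ Submodule.mem_top
  rw [← residue_eq_zero_iff, ← hσbar, (residue_eq_zero_iff r).mpr hr, map_zero]

noncomputable def bar (T : M →ₛₗ[σ] M) : V R M →ₛₗ[σbar] V R M where
  toFun := Submodule.mapQ _ _ T (le_comap hσbar T)
  map_add' := map_add _
  map_smul' c x := by
    obtain ⟨r, rfl⟩ := residue_surjective c
    obtain ⟨m, rfl⟩ := Submodule.Quotient.mk_surjective _ x
    rw [hσbar, residue_smul_mk]
    show mk (T (r • m)) = residue R (σ r) • mk (T m)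
    rw [map_smulₛₗ]
    rfl

lemma bar_mk (T : M →ₛₗ[σ] M) (m : M) : bar hσbar T (mk m) = mk (T m) := rfl

omit hσbar in
lemma exists_smul_of_mk_eq_zero (hmax : maximalIdeal R = Ideal.span {(p : R)}) {m : M}
    (h : mk (R := R) m = 0) : ∃ y : M, m = (p : R) • y := by
  rw [Submodule.Quotient.mk_eq_zero, hmax, Submodule.ideal_span_singleton_smul,
    Submodule.mem_smul_pointwise_iff_exists] at h
  obtain ⟨y, -, rfl⟩ := h
  exact ⟨y, rfl⟩

lemma surjective_sub (hmax : maximalIdeal R = Ideal.span {(p : R)}) {n : ℕ} (hn : (p : R) ^ n = 0)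
    (h2 : Basic.H2 σbar) (h3 : Basic.H3 σbar) [Module.Finite R M] (T : M →ₛₗ[σ] M) :
    Function.Surjective fun m : M => m - T m := by
  intro x
  suffices ∀ j : ℕ, ∃ m y : M, m - T m + (p : R) ^ j • y = x by
    obtain ⟨m, y, h⟩ := this n
    exact ⟨m, by simpa [hn] using h⟩
  intro j
  induction j with
  | zero => exact ⟨0, x, by simp⟩
  | succ j ih =>
    obtain ⟨m, y, rfl⟩ := ih
    obtain ⟨w, hw⟩ := Basic.surjective_sub (bar hσbar T) h2 h3 (mk y)
    obtain ⟨w, rfl⟩ := Submodule.Quotient.mk_surjective _ w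
    obtain ⟨z, hz⟩ := exists_smul_of_mk_eq_zero hmax (m := y - (w - T w)) (R := R) (by
      rw [mk, Submodule.Quotient.mk_sub, sub_eq_zero]
      exact hw.symm)
    refine ⟨m + (p : R) ^ j • w, z, ?_⟩
    rw [map_add, map_smulₛₗ, map_pow, map_natCast, pow_succ, mul_smul, ← hz, smul_sub, smul_sub]
    abel

lemma fixed_fg (hmax : maximalIdeal R = Ideal.span {(p : R)})
    (hlift : ∀ x, σbar x = x → ∃ r : R, σ r = r ∧ residue R r = x) (j : ℕ) :
    ∀ (M : Type v) [AddCommGroup M] [Module R M] [Module.Finite R M] (T : M →ₛₗ[σ] M),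
      (∀ m : M, (p : R) ^ j • m = 0) →
      ∃ s : Finset M, (∀ m ∈ s, T m = m) ∧
        ∀ m, T m = m → m ∈ Submodule.span (σ.eqLocus (RingHom.id R)) (s : Set M) := by
  induction j with
  | zero =>
    intro M _ _ _ T h
    exact ⟨∅, by simp, fun m _ => by simp [show m = 0 by simpa using h m]⟩
  | succ j ih =>
    intro M _ _ _ T h
    classical
    let F := σ.eqLocus (RingHom.id R)
    let N : Submodule R M := LinearMap.range (LinearMap.lsmul R M (p : R))
    have hN : ∀ x ∈ N, T x ∈ N := by
      rintro _ ⟨y, rfl⟩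
      exact ⟨T y, by simp [map_smulₛₗ]⟩
    obtain ⟨s, hs, hs'⟩ := ih N (Basic.restr' T N hN) (by
      rintro ⟨_, y, rfl⟩
      apply Subtype.ext
      simpa [pow_succ, mul_smul] using h y)
    obtain ⟨b, hb, hspan, hli⟩ := exists_linearIndependent (ResidueField R)
      ((mk (R := R)) '' {m : M | T m = m})
    haveI : Fintype b := (LinearIndependent.set_finite_of_isNoetherian hli).fintype
    choose f hf hfb using fun v : b => hb v.2
    refine ⟨s.image Subtype.val ∪ Finset.univ.image f, ?_, fun m hm => ?_⟩
    · simp only [Finset.mem_union, Finset.mem_image, Finset.mem_univ, true_and]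
      rintro m (⟨x, hx, rfl⟩ | ⟨i, rfl⟩)
      · exact congrArg Subtype.val (hs x hx)
      · exact hf i
    have hmem : mk (R := R) m ∈ Submodule.span (ResidueField R) (Set.range (Subtype.val : b → _)) := by
      rw [Subtype.range_coe, hspan]
      exact Submodule.subset_span ⟨m, hm, rfl⟩
    obtain ⟨c, hc⟩ := (Submodule.mem_span_range_iff_exists_fun _).mp hmem
    have hcf : ∀ i, σbar (c i) = c i := Basic.coeff_fixed (bar hσbar T) hli
      (fun i => by rw [← hfb i, bar_mk, hf i]) c (by rw [hc, bar_mk, hm])
    choose r hr hrc using fun i => hlift _ (hcf i)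
    obtain ⟨y, hy⟩ := exists_smul_of_mk_eq_zero hmax (m := m - ∑ i, r i • f i) (R := R) (by
      have e : mk (R := R) (∑ i, r i • f i) = mk m := by
        rw [← hc]
        refine (map_sum (maximalIdeal R • (⊤ : Submodule R M)).mkQ _ _).trans
          (Finset.sum_congr rfl fun i _ => ?_)
        rw [← hrc i, ← hfb i]
        exact (residue_smul_mk (r i) (f i)).symm
      rw [mk, Submodule.Quotient.mk_sub, sub_eq_zero]
      exact e.symm)
    let x : N := ⟨m - ∑ i, r i • f i, y, hy.symm⟩
    have hx : Basic.restr' T N hN x = x := Subtype.ext (by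
      show T (m - ∑ i, r i • f i) = m - ∑ i, r i • f i
      simp [map_sum, map_smulₛₗ, hm, hr, fun i => show T (f i) = f i from hf i])
    have h1 : m - ∑ i, r i • f i ∈
        Submodule.span F ((s.image Subtype.val : Finset M) : Set M) := by
      have := Submodule.mem_map_of_mem (f := N.subtype.restrictScalars F) (hs' x hx)
      rw [Submodule.map_span] at this
      simpa [x] using this
    have h2 : ∑ i, r i • f i ∈ Submodule.span F ((Finset.univ.image f : Finset M) : Set M) :=
      sum_mem fun i _ => Submodule.smul_mem _ (⟨r i, hr i⟩ : F) (Submodule.subset_span (by simp))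
    rw [Finset.coe_union, Submodule.span_union, ← sub_add_cancel m (∑ i, r i • f i)]
    exact add_mem (Submodule.mem_sup_left h1) (Submodule.mem_sup_right h2)

end Groth.Agent.SemiLin.Local
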